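import Groth.Agent.AGF12.QuotQA
import Groth.Agent.SGA3cLib.ConjTransporter
import Groth.Agent.FlatMorWeight.Chevalley
import Groth.Agent.Et18.Descent
import Groth.Agent.S3278
import Groth.Agent.StrongConn25.Quot

/-!
# `G/H ⟶ G/N`, `N` the normaliser of the neutral component of `H`, is affine
-/

set_option autoImplicit false
set_option backward.isDefEq.respectTransparency.types false
set_option linter.style.haveILetI false
set_option maxHeartbeats 1000000

universe u

open CategoryTheory CategoryTheory.Limits MonoidalCategory CartesianMonoidalCategory MonObj GrpObj AlgebraicGeometry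

namespace Groth.Agent.NormQuot25

open AlgGrpLib

section General

variable {S : Scheme.{u}} {G X T : Over S} [GrpObj G]

theorem act_one (a : AlgGrp.Action G X) (x : T ⟶ X) : lift 1 x ≫ a.act = x := by
  have h : lift (1 : T ⟶ G) x = lift (toUnit T) x ≫ (η[G] ▷ X) := by
    rw [lift_whiskerRight, Hom.one_def]
  rw [h, Category.assoc, a.one_act, leftUnitor_hom, lift_snd]

theorem act_act (a : AlgGrp.Action G X) (g g' : T ⟶ G) (x : T ⟶ X) :
    lift g (lift g' x ≫ a.act) ≫ a.act = lift (g * g') x ≫ a.act := by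
  have h1 : lift (g * g') x = lift (lift g g') x ≫ (μ[G] ▷ X) := by rw [lift_whiskerRight, Hom.mul_def]
  have h2 : lift (lift g g') x ≫ (α_ G G X).hom = lift g (lift g' x) := lift_lift_associator_hom _ _ _
  rw [h1, Category.assoc, a.mul_act, ← Category.assoc, h2, ← Category.assoc, lift_whiskerLeft]

theorem pt_orbit (a : AlgGrp.Action G X) (o : 𝟙_ (Over S) ⟶ X) (g : T ⟶ G) :
    g ≫ a.orbitMap o = lift g (toUnit T ≫ o) ≫ a.act := by
  rw [AlgGrp.Action.orbitMap, ← Category.assoc, comp_lift, Category.comp_id, ← Category.assoc g,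
    toUnit_unique (g ≫ toUnit G) (toUnit T)]

theorem unit_orbit (a : AlgGrp.Action G X) (o : 𝟙_ (Over S) ⟶ X) :
    (1 : T ⟶ G) ≫ a.orbitMap o = toUnit T ≫ o := by rw [pt_orbit, act_one]

end General

variable {k : Type u} [Field k] [IsAlgClosed k]

local notation "𝕊" => Spec (CommRingCat.of k)

theorem universallyClosed_of_sections {R N : Scheme.{u}} (π : R ⟶ N) {Idx : Type*} [Finite Idx]
    (σ : Idx → (N ⟶ R)) (hσ : ∀ t, σ t ≫ π = 𝟙 N) (hcov : ∀ z : R, ∃ t a, (σ t).base a = z) :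
    UniversallyClosed π := by
  refine ⟨fun X' Y' i₁ i₂ f' hsq₀ => ?_⟩
  have hsq := hsq₀.flip
  let σ' : Idx → (Y' ⟶ X') := fun t => hsq.lift (i₂ ≫ σ t) (𝟙 Y') (by
    rw [Category.assoc, hσ, Category.id_comp, Category.comp_id])
  have h1 : ∀ t, σ' t ≫ i₁ = i₂ ≫ σ t := fun t => hsq.lift_fst _ _ _
  have h2 : ∀ t, σ' t ≫ f' = 𝟙 Y' := fun t => hsq.lift_snd _ _ _
  have hpb : ∀ t, IsPullback (σ' t) i₂ i₁ (σ t) := fun t => by
    refine IsPullback.of_right (h₁₂ := f') (h₂₂ := π) (v₁₃ := i₂) ?_ (h1 t) hsq₀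
    rw [h2, hσ]
    exact IsPullback.of_horiz_isIso ⟨by rw [Category.id_comp, Category.comp_id]⟩
  intro Z hZ
  have himg : f'.base '' Z = ⋃ t, (σ' t).base ⁻¹' Z := by
    ext y
    simp only [Set.mem_image, Set.mem_iUnion, Set.mem_preimage]
    constructor
    · rintro ⟨z, hz, rfl⟩
      obtain ⟨t, a, ha⟩ := hcov (i₁.base z)
      obtain ⟨w, hw, -⟩ := Scheme.Pullback.exists_preimage_pullback (f := i₁) (g := σ t) z a ha.symm
      let y' := (hpb t).isoPullback.inv.base w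
      have hy : (σ' t).base y' = z :=
        (congrArg (fun g => (ConcreteCategory.hom g.base) w) (hpb t).isoPullback_inv_fst).trans hw
      refine ⟨t, ?_⟩
      have hy' : f'.base z = y' := by
        rw [← hy]; exact congrArg (fun g : Y' ⟶ Y' => g.base y') (h2 t)
      rw [hy', hy]
      exact hz
    · rintro ⟨t, ht⟩
      exact ⟨_, ht, congrArg (fun g : Y' ⟶ Y' => g.base y) (h2 t)⟩
  show IsClosed (f'.base '' Z)
  rw [himg]
  exact isClosed_iUnion_of_finite fun t => hZ.preimage (σ' t).continuous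

theorem rel_iff {G H X : Over 𝕊} [GrpObj G] [GrpObj H] {i : H ⟶ G} {a : AlgGrp.Action G X}
    {o : 𝟙_ (Over 𝕊) ⟶ X} (hQ : AGF.IsQuotient i X a o) {T : Over 𝕊} (g g' : T ⟶ G) :
    g ≫ a.orbitMap o = g' ≫ a.orbitMap o ↔ ∃ h : T ⟶ H, g * (h ≫ i) = g' := by
  have hν : (G ◁ i) ≫ μ[G] = fst G H * (snd G H ≫ i) := by rw [Hom.mul_def]; congr 1
  constructor
  · intro hgg
    obtain ⟨m, h1, h2⟩ : ∃ m : T ⟶ G ⊗ H, m ≫ fst G H = g ∧ m ≫ ((G ◁ i) ≫ μ[G]) = g' :=
      ⟨hQ.2.2.2.lift g g' hgg, hQ.2.2.2.lift_fst _ _ _, hQ.2.2.2.lift_snd _ _ _⟩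
    rw [hν, MonObj.comp_mul, h1, ← Category.assoc] at h2
    exact ⟨_, h2⟩
  · rintro ⟨h, rfl⟩
    have h3 := congrArg (fun w => lift g h ≫ w) hQ.2.2.2.w
    simp only [hν] at h3
    rw [← Category.assoc, ← Category.assoc, lift_fst, MonObj.comp_mul, lift_fst, lift_snd_assoc] at h3
    exact h3

theorem rel_unit {G N X : Over 𝕊} [GrpObj G] [GrpObj N] {n : N ⟶ G} {a : AlgGrp.Action G X}
    {o : 𝟙_ (Over 𝕊) ⟶ X} (hQ : AGF.IsQuotient n X a o) {T : Over 𝕊} (g : T ⟶ G) :
    g ≫ a.orbitMap o = toUnit T ≫ o ↔ ∃ x : T ⟶ N, x ≫ n = g := by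
  rw [eq_comm, ← unit_orbit a o, rel_iff hQ]
  simp only [_root_.one_mul]

theorem isFinite_of_cosets {H H₀ N M F : Over 𝕊} [GrpObj H] [GrpObj H₀] [GrpObj N] [GrpObj M]
    [LocallyOfFiniteType H.hom] [LocallyOfFiniteType H₀.hom] [CompactSpace H.left]
    [LocallyOfFiniteType M.hom] [IsAffine M.left]
    [IsSeparated F.hom] [LocallyOfFiniteType F.hom]
    (j : H₀ ⟶ H) [IsMonHom j] [IsOpenImmersion j.left] (iH : H ⟶ N) [IsMonHom iH] (h₀ : H₀ ⟶ N) (hjH : j ≫ iH = h₀)
    (q : N ⟶ M) [IsMonHom q] [Flat q.left] [Surjective q.left] [QuasiCompact q.left] (hk : AlgGrp.IsKernel h₀ q)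
    (pN : N ⟶ F) [Flat pN.left] [Surjective pN.left] [QuasiCompact pN.left] (r : M ⟶ F) (hr : q ≫ r = pN)
    (hF₁ : ∀ (T : Over 𝕊) (x y : T ⟶ N), x ≫ pN = y ≫ pN → ∃ h : T ⟶ H, x * (h ≫ iH) = y)
    (hF₂ : ∀ {T : Over 𝕊} (x : T ⟶ N) (h : T ⟶ H), (x * (h ≫ iH)) ≫ pN = x ≫ pN) :
    IsFinite r.left := by
  -- representatives of the components of `H`
  haveI : IsLocallyNoetherian H.left := LocallyOfFiniteType.isLocallyNoetherian H.hom
  haveI : IsNoetherian H.left := ⟨⟩
  have hrep : ∀ x : H.left, ∃ t : 𝟙_ (Over 𝕊) ⟶ H,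
      t.left.base (IsLocalRing.closedPoint k) ∈ connectedComponent x := fun x => by
    obtain ⟨c, hc, hcc⟩ := DimLib.exists_isClosed_singleton_mem H.hom (S := connectedComponent x)
      ⟨x, mem_connectedComponent⟩ isClosed_connectedComponent.isLocallyClosed
    exact ⟨Over.homMk (pointOfClosedPoint H.hom c hcc) (pointOfClosedPoint_comp H.hom c hcc),
      (pointOfClosedPoint_apply H.hom c hcc _).symm ▸ hc⟩
  choose t ht using hrep
  obtain ⟨s, hs⟩ := isCompact_univ.elim_finite_subcover (fun x : H.left => connectedComponent x)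
    (fun x => StrongConn25.isOpen_component x) (fun x _ => Set.mem_iUnion.2 ⟨x, mem_connectedComponent⟩)
  have hrange : connectedComponent (ConnComp.e₀ H) ⊆ Set.range j.left.base := by
    refine IsClopen.connectedComponent_subset ⟨?_, j.left.isOpenEmbedding.isOpen_range⟩
      ⟨ConnComp.e₀ H₀, StrongConn25.map_e₀ j⟩
    exact SGA3cLib.isClosed_range_of_isImmersion j
  -- the base change of `r` along `pN`
  let R := pullback r pN
  let π₁ : R ⟶ M := pullback.fst r pN
  let π₂ : R ⟶ N := pullback.snd r pN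
  have hR : IsPullback π₁ π₂ r pN := IsPullback.of_hasPullback r pN
  have hR' := hR.map (Over.forget 𝕊)
  have hσ : ∀ x : H.left, ∃ σ : N ⟶ R, σ ≫ π₂ = 𝟙 N ∧
      σ ≫ π₁ = (𝟙 N * (toUnit N ≫ t x ≫ iH)) ≫ q := fun x => by
    refine ⟨hR.lift ((𝟙 N * (toUnit N ≫ t x ≫ iH)) ≫ q) (𝟙 N) ?_, hR.lift_snd _ _ _, hR.lift_fst _ _ _⟩
    rw [Category.assoc, hr, ← Category.assoc (toUnit N) (t x) iH, hF₂, Category.id_comp]
  choose σ hσ₂ hσ₁ using hσ
  have hcov : ∀ z : R.left, ∃ x : s, ∃ w : N.left, (σ x.1).left.base w = z := by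
    intro z
    let T : Over 𝕊 := Over.mk (R.left.fromSpecResidueField z ≫ R.hom)
    let z₀ : T ⟶ R := Over.homMk (R.left.fromSpecResidueField z) rfl
    obtain ⟨T', c, b, _, _, _, hb⟩ := exists_lift_cover q (z₀ ≫ π₁)
    obtain ⟨y, -⟩ := c.left.surjective (show T.left from IsLocalRing.closedPoint (R.left.residueField z))
    let U : Over 𝕊 := Over.mk (T'.left.fromSpecResidueField y ≫ T'.hom)
    let e : U ⟶ T' := Over.homMk (T'.left.fromSpecResidueField y) rfl
    have hb2 : b ≫ pN = c ≫ z₀ ≫ π₂ ≫ pN := by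
      refine (congrArg (b ≫ ·) hr).symm.trans ?_
      rw [← Category.assoc b, hb]
      simp only [Category.assoc]
      rw [hR.w]
    have hbe : (e ≫ b ≫ pN) = (e ≫ c ≫ z₀ ≫ π₂) ≫ pN := by
      simp only [hb2, Category.assoc]
    obtain ⟨h, hh⟩ := hF₁ U (e ≫ c ≫ z₀ ≫ π₂) (e ≫ b) (by
      rw [Category.assoc e b]; exact hbe.symm)
    obtain ⟨u⟩ : Nonempty U.left := inferInstanceAs (Nonempty (Spec (T'.left.residueField y)))
    obtain ⟨x, hxs, hxmem⟩ := Set.mem_iUnion₂.1 (hs (Set.mem_univ (h.left.base u)))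
    let L : H ⟶ H := (toUnit H ≫ t x)⁻¹ * 𝟙 H
    have hL : t x ≫ L = 1 := by
      simp only [L, MonObj.comp_mul, GrpObj.comp_inv, Category.comp_id]
      rw [← Category.assoc, toUnit_unique (t x ≫ toUnit H) (𝟙 _), Category.id_comp, _root_.inv_mul_cancel]
    have hin : Set.range (h ≫ L).left.base ⊆ Set.range j.left.base := by
      rintro _ ⟨u', rfl⟩
      have hu : u' = u := by
        haveI : Subsingleton U.left := inferInstanceAs (Subsingleton (Spec (T'.left.residueField y)))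
        exact Subsingleton.elim _ _
      subst hu
      refine hrange ?_
      have h1 := L.left.continuous.image_connectedComponent_subset (t x |>.left.base (IsLocalRing.closedPoint k))
        ⟨h.left.base u', by rw [← connectedComponent_eq (ht x)]; exact hxmem, rfl⟩
      have h2 : L.left.base ((t x).left.base (IsLocalRing.closedPoint k)) = ConnComp.e₀ H := by
        refine (congrArg (fun g : 𝟙_ (Over 𝕊) ⟶ H => g.left.base (IsLocalRing.closedPoint k)) hL).trans ?_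
        rw [← one_unit]
      rw [h2] at h1
      exact h1
    let l : U ⟶ H₀ := Over.homMk (IsOpenImmersion.lift j.left (h ≫ L).left hin) (by
      rw [← Over.w j, ← Category.assoc, IsOpenImmersion.lift_fac, Over.w (h ≫ L)])
    have hl : l ≫ j = h ≫ L := Over.OverMorphism.ext (IsOpenImmersion.lift_fac _ _ _)
    have hhl : h = (toUnit U ≫ t x) * (l ≫ j) := by
      rw [hl]
      simp only [L, MonObj.comp_mul, GrpObj.comp_inv, Category.comp_id]
      rw [← Category.assoc, toUnit_unique (h ≫ toUnit H) (toUnit U), _root_.mul_inv_cancel_left]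
    have hbb : e ≫ b = ((e ≫ c ≫ z₀ ≫ π₂) * (toUnit U ≫ t x ≫ iH)) * (l ≫ h₀) := by
      rw [← hh, hhl, MonObj.mul_comp, _root_.mul_assoc, Category.assoc, Category.assoc, hjH]
    have hz : (e ≫ c ≫ z₀) = (e ≫ c ≫ z₀ ≫ π₂) ≫ σ x := by
      refine hR.hom_ext ?_ ?_
      · have h5 : (e ≫ b) ≫ q = ((e ≫ c ≫ z₀ ≫ π₂) * (toUnit U ≫ t x ≫ iH)) ≫ q := by
          rw [hbb, MonObj.mul_comp, Category.assoc l h₀ q, kernel_comp hk, MonObj.comp_one, _root_.mul_one]
        have h6 : ((e ≫ c ≫ z₀ ≫ π₂) ≫ σ x) ≫ π₁ = (e ≫ b) ≫ q := by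
          rw [h5, Category.assoc (e ≫ c ≫ z₀ ≫ π₂) (σ x) π₁, hσ₁ x]
          rw [← Category.assoc (e ≫ c ≫ z₀ ≫ π₂) (𝟙 N * (toUnit N ≫ t x ≫ iH)) q]
          refine congrArg (· ≫ q) ?_
          rw [MonObj.comp_mul, Category.comp_id, ← Category.assoc (e ≫ c ≫ z₀ ≫ π₂) (toUnit N) (t x ≫ iH),
            toUnit_unique ((e ≫ c ≫ z₀ ≫ π₂) ≫ toUnit N) (toUnit U)]
        rw [h6, Category.assoc e b q, hb]
        simp only [Category.assoc]
      · rw [Category.assoc (e ≫ c ≫ z₀ ≫ π₂) (σ x) π₂, hσ₂, Category.comp_id]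
        simp only [Category.assoc]
    refine ⟨⟨x, hxs⟩, (e ≫ c ≫ z₀ ≫ π₂).left.base u, ?_⟩
    have h9 : ∀ w : T.left, z₀.left.base w = z := fun w => Scheme.fromSpecResidueField_apply z w
    have h10 : (e ≫ c ≫ z₀).left.base u = z₀.left.base (c.left.base (e.left.base u)) := by
      simp only [Over.comp_left, Scheme.Hom.comp_base, TopCat.comp_app]
    exact ((congrArg (fun g : U ⟶ R => g.left.base u) hz).symm.trans h10).trans (h9 _)
  haveI : UniversallyClosed π₂.left := universallyClosed_of_sections π₂.left (fun x : s => (σ x.1).left)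
    (fun x => congrArg CommaMorphism.left (hσ₂ x.1)) hcov
  haveI : UniversallyClosed r.left :=
    MorphismProperty.of_isPullback_of_descendsAlong (P := @UniversallyClosed)
      (Q := @Surjective ⊓ @Flat ⊓ @QuasiCompact) hR'.flip ⟨⟨(inferInstance : Surjective pN.left), (inferInstance : Flat pN.left)⟩, (inferInstance : QuasiCompact pN.left)⟩ ‹_›
  haveI : QuasiCompact r.left := quasiCompact_left r
  haveI : LocallyOfFiniteType r.left := by
    haveI : LocallyOfFiniteType (r.left ≫ F.hom) := by rw [Over.w r]; infer_instance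
    exact locallyOfFiniteType_of_comp r.left F.hom
  haveI : IsSeparated r.left := by
    haveI : IsSeparated (r.left ≫ F.hom) := by rw [Over.w r]; infer_instance
    exact IsSeparated.of_comp r.left F.hom
  haveI : IsProper r.left := ⟨⟩
  haveI : LocallyQuasiFinite r.left := by
    refine locallyQuasiFinite_iff_finite_preimage_singleton.2 fun y => ?_
    obtain ⟨w, hw⟩ := pN.left.surjective y
    refine (Set.finite_range fun x : s => π₁.left.base ((σ x.1).left.base w)).subset fun m hm => ?_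
    obtain ⟨z, hz1, hz2⟩ := Scheme.Pullback.exists_preimage_pullback (f := r.left) (g := pN.left) m w
      ((Set.mem_singleton_iff.1 hm).trans hw.symm)
    let z' := hR'.isoPullback.inv.base z
    have hz1' : π₁.left.base z' = m :=
      (congrArg (fun g => (ConcreteCategory.hom g.base) z) hR'.isoPullback_inv_fst).trans hz1
    have hz2' : π₂.left.base z' = w :=
      (congrArg (fun g => (ConcreteCategory.hom g.base) z) hR'.isoPullback_inv_snd).trans hz2
    obtain ⟨x, w', hw'⟩ := hcov z'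
    have : w' = w := by
      rw [← hz2', ← hw']
      exact (congrArg (fun g : N ⟶ N => g.left.base w') (hσ₂ x.1)).symm
    subst this
    exact ⟨x, by rw [← hz1', ← hw']⟩
  exact IsFinite.of_isProper_of_locallyQuasiFinite r.left

theorem isAffineHom_of_fibre {G Q₁ Q₂ : Over 𝕊} [GrpObj G]
    [IsSeparated Q₂.hom] (a₁ : AlgGrp.Action G Q₁) (a₂ : AlgGrp.Action G Q₂) (o₂ : 𝟙_ (Over 𝕊) ⟶ Q₂)
    (f : Q₁ ⟶ Q₂) [Surjective (a₂.orbitMap o₂).left] [Flat (a₂.orbitMap o₂).left] [QuasiCompact (a₂.orbitMap o₂).left]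
    (heq : ∀ {T : Over 𝕊} (g : T ⟶ G) (x : T ⟶ Q₁), (lift g x ≫ a₁.act) ≫ f = lift g (x ≫ f) ≫ a₂.act)
    {F : Over 𝕊} [IsAffine F.left] (φ : F ⟶ Q₁) [Mono φ] (hF : IsPullback φ (toUnit F) f o₂) : IsAffineHom f.left := by
  let p₂ := a₂.orbitMap o₂
  -- descent
  let P := pullback p₂ f
  let P₁ : P ⟶ G := pullback.fst p₂ f
  let P₂ : P ⟶ Q₁ := pullback.snd p₂ f
  have hP : IsPullback P₁ P₂ p₂ f := IsPullback.of_hasPullback p₂ f
  obtain ⟨θ, hθ⟩ : ∃ θ : P ⟶ F, θ ≫ φ = lift P₁⁻¹ P₂ ≫ a₁.act :=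
    ⟨hF.lift (lift P₁⁻¹ P₂ ≫ a₁.act) (toUnit P) (by
      rw [heq, ← hP.w, pt_orbit, act_act, _root_.inv_mul_cancel, act_one]), hF.lift_fst _ _ _⟩
  obtain ⟨ψ, hψ₁, hψ₂⟩ : ∃ ψ : G ⊗ F ⟶ P, ψ ≫ P₁ = fst G F ∧ ψ ≫ P₂ = lift (fst G F) (snd G F ≫ φ) ≫ a₁.act :=
    ⟨hP.lift (fst G F) (lift (fst G F) (snd G F ≫ φ) ≫ a₁.act) (by
      rw [heq, Category.assoc, hF.w, ← Category.assoc, toUnit_unique (snd G F ≫ toUnit F) (toUnit _), pt_orbit]),
      hP.lift_fst _ _ _, hP.lift_snd _ _ _⟩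
  haveI : IsIso (lift P₁ θ) := ⟨ψ, by
    refine hP.hom_ext ?_ ?_
    · rw [Category.assoc, hψ₁, lift_fst, Category.id_comp]
    · rw [Category.assoc, hψ₂, ← Category.assoc, comp_lift, lift_fst, ← Category.assoc, lift_snd, hθ, act_act,
        _root_.mul_inv_cancel, act_one, Category.id_comp], by
    apply CartesianMonoidalCategory.hom_ext
    · rw [Category.assoc, lift_fst, hψ₁, Category.id_comp]
    · rw [Category.assoc, lift_snd, Category.id_comp, ← cancel_mono φ, Category.assoc, hθ, ← Category.assoc,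
        comp_lift, GrpObj.comp_inv, hψ₁, hψ₂, act_act, _root_.inv_mul_cancel, act_one]⟩
  haveI : IsAffineHom P₁.left := by
    have h1 : P₁.left = (lift P₁ θ).left ≫ (fst G F).left := by rw [← Over.comp_left, lift_fst]
    haveI : IsIso (lift P₁ θ).left := inferInstanceAs (IsIso ((Over.forget 𝕊).map (lift P₁ θ)))
    haveI : IsAffineHom F.hom := inferInstance
    haveI : IsAffineHom (fst G F).left := (MorphismProperty.pullback_fst (P := @IsAffineHom) G.hom F.hom ‹IsAffineHom F.hom› :)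
    rw [h1]; infer_instance
  haveI : MorphismProperty.DescendsAlong @IsAffineHom
      (@Surjective ⊓ @Flat ⊓ @QuasiCompact : MorphismProperty Scheme.{u}) := Groth.Agent.Et18.descends_isAffineHom
  exact MorphismProperty.of_isPullback_of_descendsAlong (P := @IsAffineHom)
    (Q := @Surjective ⊓ @Flat ⊓ @QuasiCompact) (hP.map (Over.forget 𝕊))
    ⟨⟨(inferInstance : Surjective p₂.left), (inferInstance : Flat p₂.left)⟩, (inferInstance : QuasiCompact p₂.left)⟩ ‹_›


set_option maxHeartbeats 1500000 in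
theorem isAffineHom_main {G H H₀ N Q₁ Q₂ : Over 𝕊} [GrpObj G] [GrpObj H] [GrpObj H₀] [GrpObj N]
    [IsAffine G.left] [Smooth G.hom]
    (i : H ⟶ G) [IsMonHom i] (hi : IsClosedImmersion i.left)
    (j : H₀ ⟶ H) [IsMonHom j] (hj : IsOpenImmersion j.left)
    (n : N ⟶ G) (hN : Red.IsNormalizerOf (j ≫ i) n)
    (a₁ : AlgGrp.Action G Q₁) (o₁ : 𝟙_ (Over 𝕊) ⟶ Q₁) (hQ₁ : AGF.IsQuotient i Q₁ a₁ o₁)
    (a₂ : AlgGrp.Action G Q₂) (o₂ : 𝟙_ (Over 𝕊) ⟶ Q₂) (hQ₂ : AGF.IsQuotient n Q₂ a₂ o₂)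
    (f : Q₁ ⟶ Q₂) (hf : a₁.orbitMap o₁ ≫ f = a₂.orbitMap o₂) : IsAffineHom f.left := by
  haveI := hi
  haveI := hj
  haveI := hN.1
  haveI : LocallyOfFiniteType H.hom := by rw [← Over.w i]; infer_instance
  haveI : LocallyOfFiniteType H₀.hom := by rw [← Over.w j]; infer_instance
  haveI : IsImmersion (j ≫ i).left := by rw [Over.comp_left]; infer_instance
  haveI : IsClosedImmersion (j ≫ i).left :=
    IsClosedImmersion.of_isPreimmersion _ (SGA3cLib.isClosed_range_of_isImmersion (j ≫ i))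
  haveI : Mono (j ≫ i).left := inferInstance
  haveI : Mono (j ≫ i) := Over.mono_of_mono_left _
  obtain ⟨N', _, n', hn', hN'⟩ := SGA3cLib.ConjTransporter.exists_normalizer (j ≫ i)
  haveI : IsClosedImmersion n.left := by
    haveI := hn'
    haveI := hN.2.1
    haveI := hN'.2.1
    obtain ⟨e, he⟩ := (hN'.2.2 N n).2 ((hN.2.2 N n).1 ⟨𝟙 N, Category.id_comp n⟩)
    obtain ⟨e', he'⟩ := (hN.2.2 N' n').2 ((hN'.2.2 N' n').1 ⟨𝟙 N', Category.id_comp n'⟩)
    haveI : IsIso e := ⟨e', by rw [← cancel_mono n, Category.assoc, he', he, Category.id_comp],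
      by rw [← cancel_mono n', Category.assoc, he, he', Category.id_comp]⟩
    haveI : IsIso e.left := inferInstanceAs (IsIso ((Over.forget _).map e))
    rw [← he, Over.comp_left]; infer_instance
  haveI : Mono n := hN.2.1
  haveI : LocallyOfFiniteType N.hom := by rw [← Over.w n]; infer_instance
  haveI : IsAffine N.left := isAffine_of_isAffineHom n.left
  haveI := hQ₁.1
  haveI := hQ₂.1
  haveI hs₁ : IsSeparated Q₁.hom := AGF12.Quot.isSeparated hQ₁
  haveI hs₂ : IsSeparated Q₂.hom := AGF12.Quot.isSeparated hQ₂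
  haveI hc₁ : QuasiCompact (a₁.orbitMap o₁).left := AGF12.Quot.quasiCompact_orbit hQ₁
  haveI hc₂ : QuasiCompact (a₂.orbitMap o₂).left := AGF12.Quot.quasiCompact_orbit hQ₂
  haveI := hQ₁.2.1
  haveI := hQ₁.2.2.1
  haveI := hQ₂.2.1
  haveI := hQ₂.2.2.1
  -- points of the normaliser
  obtain ⟨h₀, hh₀⟩ : ∃ h₀ : H₀ ⟶ N, h₀ ≫ n = j ≫ i := (hN.2.2 H₀ (j ≫ i)).2 fun X' x h =>
    ⟨⟨x * h * x⁻¹, by rw [MonObj.mul_comp, MonObj.mul_comp, GrpObj.inv_comp]⟩,
      ⟨x⁻¹ * h * x, by rw [MonObj.mul_comp, MonObj.mul_comp, GrpObj.inv_comp]⟩⟩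
  haveI : IsMonHom h₀ := MultTypeAct.isMonHom_of_map_mul h₀ fun x y => by
    rw [← cancel_mono n, MonObj.mul_comp _ _ n, Category.assoc, Category.assoc, Category.assoc, hh₀, MonObj.mul_comp]
  haveI : IsClosedImmersion h₀.left := by
    haveI : IsClosedImmersion (h₀.left ≫ n.left) := by rw [← Over.comp_left, hh₀]; infer_instance
    exact IsClosedImmersion.of_comp h₀.left n.left
  have hnorm : AlgGrp.IsNormalHom h₀ := fun T g h => by
    obtain ⟨⟨h', hh'⟩, -⟩ := (hN.2.2 T (g ≫ n)).1 ⟨g, rfl⟩ T (𝟙 T) h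
    refine ⟨h', ?_⟩
    rw [← cancel_mono n, MonObj.mul_comp, MonObj.mul_comp, GrpObj.inv_comp, Category.assoc, Category.assoc, hh₀, ← hh']
    simp only [Category.id_comp]
  obtain ⟨M, _, q, _, _, _, _, _, hk⟩ := Groth.Agent.S3278.result k N H₀ h₀ hnorm
  haveI : QuasiCompact q.left := quasiCompact_left q
  -- orbit maps
  let p₁ := a₁.orbitMap o₁
  let p₂ := a₂.orbitMap o₂
  have hrel₁ : ∀ {T : Over 𝕊} (g g' : T ⟶ G), g ≫ p₁ = g' ≫ p₁ ↔ ∃ h : T ⟶ H, g * (h ≫ i) = g' :=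
    fun g g' => rel_iff hQ₁ g g'
  have hrel₂ : ∀ {T : Over 𝕊} (g : T ⟶ G), g ≫ p₂ = toUnit T ≫ o₂ ↔ ∃ x : T ⟶ N, x ≫ n = g :=
    fun g => rel_unit hQ₂ g
  have ho : o₁ ≫ f = o₂ := by
    have h1 := congrArg (fun w => (1 : 𝟙_ (Over 𝕊) ⟶ G) ≫ w) hf
    rw [← Category.assoc, unit_orbit, unit_orbit, toUnit_unique (toUnit (𝟙_ (Over 𝕊))) (𝟙 _), Category.id_comp,
      Category.id_comp] at h1
    exact h1
  have hp : ∀ {T : Over 𝕊} (g : T ⟶ G), (g ≫ p₁) ≫ f = g ≫ p₂ := fun g => by rw [Category.assoc, hf]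
  -- equivariance
  have heq : ∀ {T : Over 𝕊} (g : T ⟶ G) (x : T ⟶ Q₁),
      (lift g x ≫ a₁.act) ≫ f = lift g (x ≫ f) ≫ a₂.act := fun {T} g x =>
    StrongConn25.eq_of_lifts p₁ x _ _ fun T' c e he => by
      have e1 : c ≫ lift g x ≫ a₁.act = ((c ≫ g) * e) ≫ p₁ := by
        rw [← Category.assoc, comp_lift, ← he, pt_orbit, act_act, ← pt_orbit]
      rw [← Category.assoc c (lift g x ≫ a₁.act) f, e1, hp, ← Category.assoc c, comp_lift, ← Category.assoc c x, ← he, hp,
        pt_orbit a₂ o₂ e, act_act, ← pt_orbit]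
  -- the fibre over the base point
  let F := pullback f o₂
  let φ : F ⟶ Q₁ := pullback.fst f o₂
  have hF : IsPullback φ (toUnit F) f o₂ := by
    rw [toUnit_unique (toUnit F) (pullback.snd f o₂)]; exact IsPullback.of_hasPullback f o₂
  haveI : Mono φ := by
    haveI : Mono o₂ := ⟨fun _ _ _ => toUnit_unique _ _⟩
    exact inferInstanceAs (Mono (pullback.fst f o₂))
  obtain ⟨pN, hpN⟩ : ∃ pN : N ⟶ F, pN ≫ φ = n ≫ p₁ :=
    ⟨hF.lift (n ≫ p₁) (toUnit N) (by rw [hp]; exact (hrel₂ n).2 ⟨𝟙 N, Category.id_comp n⟩), hF.lift_fst _ _ _⟩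
  have hsqN : IsPullback n pN p₁ φ := by
    have hex : ∀ c : PullbackCone p₁ φ, ∃ x : c.pt ⟶ N, x ≫ n = c.fst := fun c =>
      (hrel₂ _).1 (by rw [← hp, c.condition, Category.assoc, hF.w, ← Category.assoc, toUnit_unique (c.snd ≫ toUnit F)])
    choose x hx using hex
    refine IsPullback.of_isLimit' ⟨hpN.symm⟩ (PullbackCone.IsLimit.mk _ x hx (fun c => ?_) fun c m h1 _ => ?_)
    · rw [← cancel_mono φ, Category.assoc, hpN, ← Category.assoc, hx, c.condition]
    · rw [← cancel_mono n, h1, hx]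
  have hsqN' := hsqN.map (Over.forget 𝕊)
  haveI : Flat pN.left := MorphismProperty.of_isPullback hsqN' hQ₁.2.1
  haveI : Surjective pN.left := MorphismProperty.of_isPullback hsqN' hQ₁.2.2.1
  haveI : QuasiCompact pN.left := MorphismProperty.of_isPullback hsqN' hc₁
  have hF' := hF.map (Over.forget 𝕊)
  haveI : IsClosedImmersion o₂.left := by
    haveI : IsClosedImmersion (o₂.left ≫ Q₂.hom) := by
      rw [Over.w o₂]; exact inferInstanceAs (IsClosedImmersion (𝟙 (Spec (CommRingCat.of k))))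
    exact IsClosedImmersion.of_comp o₂.left Q₂.hom
  haveI : IsClosedImmersion φ.left := MorphismProperty.of_isPullback hF'.flip ‹_›
  haveI : IsSeparated F.hom := by rw [← Over.w φ]; infer_instance
  haveI : LocallyOfFiniteType F.hom := by rw [← Over.w φ]; infer_instance
  obtain ⟨r, hr⟩ := StrongConn25.exists_desc q pN fun W x y hxy => by
    obtain ⟨h, hh⟩ := exists_lift_kernel hk (g := x⁻¹ * y) (by
      rw [MonObj.mul_comp, GrpObj.inv_comp, hxy, _root_.inv_mul_cancel])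
    rw [← cancel_mono φ, Category.assoc, Category.assoc, hpN, ← Category.assoc, ← Category.assoc, hrel₁]
    refine ⟨h ≫ j, ?_⟩
    rw [Category.assoc, ← hh₀, ← Category.assoc, hh, ← MonObj.mul_comp, _root_.mul_inv_cancel_left]
  haveI : Surjective r.left := by
    haveI : Surjective (q.left ≫ r.left) := by rw [← Over.comp_left, hr]; infer_instance
    exact Surjective.of_comp q.left r.left
  -- `H` inside `N`
  obtain ⟨iH, hiH⟩ : ∃ iH : H ⟶ N, iH ≫ n = i := (hrel₂ i).1 (by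
    rw [← hp, show i ≫ p₁ = toUnit H ≫ o₁ from
      ((hrel₁ 1 i).2 ⟨𝟙 H, by rw [_root_.one_mul, Category.id_comp]⟩).symm.trans (unit_orbit _ _),
      Category.assoc, ho])
  have hjH : j ≫ iH = h₀ := by rw [← cancel_mono n, Category.assoc, hiH, hh₀]
  haveI : IsMonHom iH := MultTypeAct.isMonHom_of_map_mul iH fun x y => by
    rw [← cancel_mono n, MonObj.mul_comp _ _ n, Category.assoc, Category.assoc, Category.assoc, hiH, MonObj.mul_comp]
  haveI : CompactSpace H.left := QuasiCompact.compactSpace_of_compactSpace i.left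
  haveI : IsFinite r.left := isFinite_of_cosets j iH h₀ hjH q hk pN r hr
    (fun T x y hxy => by
      obtain ⟨h, hh⟩ := (hrel₁ (x ≫ n) (y ≫ n)).1 (by
        rw [Category.assoc, Category.assoc, ← hpN, ← Category.assoc, hxy, Category.assoc])
      exact ⟨h, by rw [← cancel_mono n, MonObj.mul_comp, Category.assoc, hiH, hh]⟩)
    (fun x h => by
      rw [← cancel_mono φ, Category.assoc, Category.assoc, hpN, ← Category.assoc, ← Category.assoc, eq_comm, hrel₁]
      exact ⟨h, by rw [MonObj.mul_comp, Category.assoc h iH n, hiH]⟩)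
  haveI : CompactSpace F.left := ⟨by
    rw [← pN.left.surjective.range_eq]; exact isCompact_range pN.left.continuous⟩
  haveI : QuasiSeparatedSpace F.left := quasiSeparatedSpace_of_quasiSeparated F.hom
  haveI : IsAffine F.left := FlatMorWeight.isAffine_of_finite_surjective r.left
  exact isAffineHom_of_fibre a₁ a₂ o₂ f heq φ hF

end Groth.Agent.NormQuot25
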